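import Mathlib

/-!
# The field generated by a normal abelian subgroup of a transitive linear group

If a finite group `G` is transitive on the non-zero elements of a finite abelian group `V`, then
an abelian normal subgroup `A` generates a finite field in `End V`, normalised by `G`.
-/

set_option autoImplicit false
set_option linter.style.haveILetI false

namespace CfsgLib.Semilinear

variable {G V : Type*} [Group G] [AddCommGroup V] [DistribMulAction G V]

/-- For a finite field of `q ^ d` elements the ring automorphisms form a cyclic group of order `d`. -/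
theorem isCyclic_ringEquiv_and_card {F : Type*} [Field F] [Fintype F] {q d : ℕ} [Fact q.Prime]
    [CharP F q] (hcard : Fintype.card F = q ^ d) :
    IsCyclic (F ≃+* F) ∧ Nat.card (F ≃+* F) = d := by
  letI : Algebra (ZMod q) F := ZMod.algebra F q
  let e : (F ≃ₐ[ZMod q] F) ≃* (F ≃+* F) :=
    { toFun := fun f => f.toRingEquiv
      invFun := fun f => AlgEquiv.ofRingEquiv (f := f)
        (fun x => by
          have : ((f : F →+* F).comp (algebraMap (ZMod q) F)) = algebraMap (ZMod q) F :=
            Subsingleton.elim _ _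
          exact RingHom.congr_fun this x)
      left_inv := fun f => by ext; rfl
      right_inv := fun f => by ext; rfl
      map_mul' := fun f g => by ext; rfl }
  have hd : Module.finrank (ZMod q) F = d := by
    have h := Module.card_eq_pow_finrank (K := ZMod q) (V := F)
    rw [ZMod.card, hcard] at h
    exact (Nat.pow_right_injective (Fact.out : q.Prime).two_le h).symm
  refine ⟨isCyclic_of_surjective e e.surjective, ?_⟩
  rw [← Nat.card_congr e.toEquiv, IsGalois.card_aut_eq_finrank, hd]

/-- A finite abelian group acting fixed-point-freely on a finite non-trivial abelian group is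
cyclic. -/
theorem isCyclic_of_free [Finite V] [Nontrivial V] [Finite G]
    (hfree : ∀ v : V, v ≠ 0 → ∀ g : G, g • v = v → g = 1) (A : Subgroup G)
    (hA : ∀ a ∈ A, ∀ b ∈ A, a * b = b * a) : IsCyclic A := by
  classical
  let T : A →* AddMonoid.End V := (DistribMulAction.toAddMonoidEnd G V).comp A.subtype
  have hTap : ∀ (a : A) (v : V), T a v = (a : G) • v := fun _ _ => rfl
  haveI : Finite (AddMonoid.End V) := Finite.of_injective _ DFunLike.coe_injective
  let R : Subring (AddMonoid.End V) := Subring.closure (Set.range T)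
  haveI : IsMulCommutative R := Subring.isMulCommutative_closure (by
    rintro _ ⟨a, rfl⟩ _ ⟨b, rfl⟩
    rw [← map_mul, ← map_mul, show a * b = b * a from Subtype.ext (hA a a.2 b b.2)])
  letI : CommRing R := open scoped IsMulCommutative in inferInstance
  haveI : Nontrivial R := by
    refine ⟨⟨1, 0, fun h => ?_⟩⟩
    obtain ⟨v, hv⟩ := exists_ne (0 : V)
    exact hv (DFunLike.congr_fun (congrArg Subtype.val h) v)
  let T' : A →* R :=
    { toFun := fun a => ⟨T a, Subring.subset_closure ⟨a, rfl⟩⟩
      map_one' := Subtype.ext (map_one T)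
      map_mul' := fun a b => Subtype.ext (map_mul T a b) }
  obtain ⟨M, hM⟩ := Ideal.exists_maximal R
  refine isCyclic_of_subgroup_isDomain ((Ideal.Quotient.mk M).toMonoidHom.comp T') ?_
  rw [injective_iff_map_eq_one]
  intro a ha
  by_contra ha1
  have hmem : T' a - 1 ∈ M := (Ideal.Quotient.mk_eq_mk_iff_sub_mem _ _).1 (ha.trans (map_one _).symm)
  have hreg : Function.Injective (fun r : R => (T' a - 1) * r) := by
    intro r s hrs
    refine Subtype.ext (AddMonoidHom.ext fun v => ?_)
    have h := DFunLike.congr_fun (congrArg Subtype.val hrs) v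
    have h' : (a : G) • (r.1 v) - r.1 v = (a : G) • (s.1 v) - s.1 v := h
    have hfix : (a : G) • (r.1 v - s.1 v) = r.1 v - s.1 v := by
      rw [smul_sub]
      exact sub_eq_sub_iff_sub_eq_sub.1 h'
    by_contra hne
    exact ha1 (Subtype.ext (hfree _ (sub_ne_zero.2 hne) _ hfix))
  obtain ⟨r, hr⟩ := (Finite.surjective_of_injective hreg) (1 : R)
  exact hM.ne_top ((Ideal.eq_top_iff_one M).2 (hr ▸ M.mul_mem_right r hmem))

/-- If `G` is transitive on the non-zero elements of `V`, an abelian normal subgroup generates a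
field `F` in `End V` over which `G` acts semilinearly. -/
theorem exists_field_of_abelian_normal [Finite V] [Nontrivial V]
    (htrans : ∀ v w : V, v ≠ 0 → w ≠ 0 → ∃ g : G, g • v = w)
    (hfaith : ∀ g : G, (∀ v : V, g • v = v) → g = 1)
    (A : Subgroup G) [A.Normal] (hA : ∀ a ∈ A, ∀ b ∈ A, a * b = b * a) :
    ∃ (F : Type) (_ : Field F) (_ : Fintype F) (φ : F →+* AddMonoid.End V) (σ : G →* (F ≃+* F))
      (ι : A →* F),
      (∀ f : F, f ≠ 0 → Function.Injective (φ f)) ∧
      (∀ (g : G) (f : F) (v : V), g • φ f v = φ (σ g f) (g • v)) ∧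
      (∀ (a : A) (v : V), φ (ι a) v = (a : G) • v) ∧
      σ.ker = Subgroup.centralizer (A : Set G) := by
  classical
  let E := AddMonoid.End V
  haveI : Finite E := Finite.of_injective _ DFunLike.coe_injective
  let P : G →* E := DistribMulAction.toAddMonoidEnd G V
  have hPap : ∀ (g : G) (v : V), P g v = g • v := fun _ _ => rfl
  let T : A →* E := P.comp A.subtype
  let K : Subring E := Subring.closure (Set.range T)
  haveI : IsMulCommutative K := Subring.isMulCommutative_closure (by
    rintro _ ⟨a, rfl⟩ _ ⟨b, rfl⟩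
    rw [← map_mul, ← map_mul, show a * b = b * a from Subtype.ext (hA a a.2 b b.2)])
  letI : CommRing K := open scoped IsMulCommutative in inferInstance
  -- conjugation preserves `K`
  have hmul : ∀ g h : G, P g * P h = P (g * h) := fun g h => (map_mul P g h).symm
  have hconj : ∀ g : G, ∀ k ∈ K, P g * k * P g⁻¹ ∈ K := by
    intro g k hk
    induction hk using Subring.closure_induction with
    | mem x hx =>
      obtain ⟨a, rfl⟩ := hx
      refine Subring.subset_closure ⟨⟨g * a * g⁻¹, Subgroup.Normal.conj_mem inferInstance _ a.2 g⟩, ?_⟩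
      simp only [T, MonoidHom.comp_apply, Subgroup.coe_subtype, map_mul]
    | zero => simp [zero_mem]
    | one => rw [mul_one, hmul, mul_inv_cancel, map_one]; exact one_mem _
    | add x y _ _ hx hy => rw [mul_add, add_mul]; exact add_mem hx hy
    | neg x _ hx => rw [mul_neg, neg_mul]; exact neg_mem hx
    | mul x y _ _ hx hy =>
      have : P g * (x * y) * P g⁻¹ = P g * x * P g⁻¹ * (P g * y * P g⁻¹) := by
        rw [show P g * x * P g⁻¹ * (P g * y * P g⁻¹) = P g * x * (P g⁻¹ * P g) * y * P g⁻¹ by
          noncomm_ring, hmul, inv_mul_cancel, map_one]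
        noncomm_ring
      rw [this]; exact mul_mem hx hy
  -- the orbits `K v`
  have hdom : ∀ x : K, x ≠ 0 → ∀ v : V, v ≠ 0 → x.1 v ≠ 0 := by
    let S : V → Set V := fun v => Set.range (fun k : K => k.1 v)
    have hS_self : ∀ v, v ∈ S v := fun v => ⟨1, rfl⟩
    have hS_sub : ∀ v w, w ∈ S v → S w ⊆ S v := by
      rintro v w ⟨k, rfl⟩ _ ⟨l, rfl⟩
      exact ⟨l * k, rfl⟩
    have hS_zero : ∀ v, (0 : V) ∈ S v := fun v => ⟨0, rfl⟩
    have hcard : ∀ (g : G) (v : V), Nat.card (S v) ≤ Nat.card (S (g • v)) := by
      intro g v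
      refine Nat.card_le_card_of_injective (fun u => ⟨g • u.1, ?_⟩) ?_
      · obtain ⟨u, k, rfl⟩ := u
        refine ⟨⟨_, hconj g k.1 k.2⟩, ?_⟩
        show g • k.1 (g⁻¹ • g • v) = g • k.1 v
        rw [inv_smul_smul]
      · intro u w h
        exact Subtype.ext (smul_left_cancel g (congrArg Subtype.val h))
    have hsym : ∀ v w, v ≠ 0 → w ≠ 0 → w ∈ S v → S w = S v := by
      intro v w hv hw hwv
      obtain ⟨g, hg⟩ := htrans v w hv hw
      have h := hcard g v
      rw [hg, Nat.card_coe_set_eq, Nat.card_coe_set_eq] at h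
      exact Set.eq_of_subset_of_ncard_le (hS_sub v w hwv) h (Set.toFinite _)
    intro x hx v hv hxv
    obtain ⟨w, hw⟩ : ∃ w, x.1 w ≠ 0 := by
      by_contra h
      push Not at h
      exact hx (Subtype.ext (AddMonoidHom.ext h))
    have hw0 : w ≠ 0 := fun h => hw (by rw [h, map_zero])
    have hvw : v + w ≠ 0 := fun h => hw (by
      rw [← neg_eq_of_add_eq_zero_right h, map_neg, hxv, neg_zero])
    have hzw : x.1 w ∈ S (v + w) := ⟨x, by simp [map_add, hxv]⟩
    have h1 : S (v + w) = S w :=
      (hsym (v + w) (x.1 w) hvw hw hzw).symm.trans (hsym w (x.1 w) hw0 hw ⟨x, rfl⟩)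
    obtain ⟨k, hk⟩ : v + w ∈ S w := h1 ▸ hS_self (v + w)
    have hvS : v ∈ S w := by
      refine ⟨k - 1, ?_⟩
      show k.1 w - w = v
      rw [show k.1 w = v + w from hk, add_sub_cancel_right]
    obtain ⟨l, hl⟩ := (hsym w v hw0 hv hvS).symm ▸ hS_self w
    apply hw
    rw [← show l.1 v = w from hl]
    show (x * l).1 v = 0
    rw [mul_comm]
    show l.1 (x.1 v) = 0
    rw [hxv, map_zero]
  haveI : Nontrivial K := by
    refine ⟨⟨1, 0, fun h => ?_⟩⟩
    obtain ⟨v, hv⟩ := exists_ne (0 : V)
    exact hv (DFunLike.congr_fun (congrArg Subtype.val h) v)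
  haveI : NoZeroDivisors K := ⟨fun {a b} hab => by
    by_contra h
    push Not at h
    obtain ⟨v, hv⟩ := exists_ne (0 : V)
    exact hdom a h.1 _ (hdom b h.2 v hv) (DFunLike.congr_fun (congrArg Subtype.val hab) v)⟩
  haveI : IsDomain K := NoZeroDivisors.to_isDomain K
  letI : Field K := (Finite.isDomain_to_isField K).toField
  letI : Fintype (Shrink.{0} K) := Fintype.ofFinite _
  let r : Shrink.{0} K ≃+* K := Shrink.ringEquiv.{0} K
  let c : G → (K ≃+* K) := fun g =>
    { toFun := fun k => ⟨P g * k.1 * P g⁻¹, hconj g k.1 k.2⟩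
      invFun := fun k => ⟨P g⁻¹ * k.1 * P g, by simpa using hconj g⁻¹ k.1 k.2⟩
      left_inv := fun k => by
        refine Subtype.ext ?_
        show P g⁻¹ * (P g * k.1 * P g⁻¹) * P g = k.1
        rw [show P g⁻¹ * (P g * k.1 * P g⁻¹) * P g = (P g⁻¹ * P g) * k.1 * (P g⁻¹ * P g) by
          noncomm_ring, hmul, inv_mul_cancel, map_one, one_mul, mul_one]
      right_inv := fun k => by
        refine Subtype.ext ?_
        show P g * (P g⁻¹ * k.1 * P g) * P g⁻¹ = k.1
        rw [show P g * (P g⁻¹ * k.1 * P g) * P g⁻¹ = (P g * P g⁻¹) * k.1 * (P g * P g⁻¹) by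
          noncomm_ring, hmul, mul_inv_cancel, map_one, one_mul, mul_one]
      map_mul' := fun k l => by
        refine Subtype.ext ?_
        show P g * (k.1 * l.1) * P g⁻¹ = P g * k.1 * P g⁻¹ * (P g * l.1 * P g⁻¹)
        rw [show P g * k.1 * P g⁻¹ * (P g * l.1 * P g⁻¹) = P g * k.1 * (P g⁻¹ * P g) * l.1 * P g⁻¹ by
          noncomm_ring, hmul, inv_mul_cancel, map_one]
        noncomm_ring
      map_add' := fun k l => by
        refine Subtype.ext ?_
        show P g * (k.1 + l.1) * P g⁻¹ = P g * k.1 * P g⁻¹ + P g * l.1 * P g⁻¹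
        noncomm_ring }
  let σ : G →* (Shrink.{0} K ≃+* Shrink.{0} K) :=
    MonoidHom.mk' (fun g => r.trans ((c g).trans r.symm)) (fun g h => by
      refine RingEquiv.ext fun k => ?_
      show r.symm (c (g * h) (r k)) = r.symm (c g (r (r.symm (c h (r k)))))
      rw [RingEquiv.apply_symm_apply]
      congr 1
      refine Subtype.ext ?_
      show P (g * h) * (r k).1 * P (g * h)⁻¹ = P g * (P h * (r k).1 * P h⁻¹) * P g⁻¹
      rw [mul_inv_rev, map_mul, map_mul]
      noncomm_ring)
  have hσ : ∀ g k, r (σ g k) = c g (r k) := fun g k => by simp [σ]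
  let T' : A →* K :=
    { toFun := fun a => ⟨T a, Subring.subset_closure ⟨a, rfl⟩⟩
      map_one' := Subtype.ext (map_one T)
      map_mul' := fun a b => Subtype.ext (map_mul T a b) }
  refine ⟨Shrink.{0} K, inferInstance, inferInstance, K.subtype.comp r.toRingHom, σ,
    r.symm.toRingHom.toMonoidHom.comp T', ?_, ?_, ?_, ?_⟩
  · intro f hf
    refine (injective_iff_map_eq_zero ((r f).1 : V →+ V)).2 fun v hv => ?_
    by_contra hv0
    exact hdom (r f) (fun h => hf (r.injective (h.trans r.map_zero.symm))) v hv0 hv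
  · intro g f v
    show g • (r f).1 v = (r (σ g f)).1 (g • v)
    rw [hσ]
    show g • (r f).1 v = g • (r f).1 (g⁻¹ • g • v)
    rw [inv_smul_smul]
  · intro a v
    show (r (r.symm (T' a))).1 v = (a : G) • v
    rw [RingEquiv.apply_symm_apply]
    rfl
  · ext g
    rw [MonoidHom.mem_ker, Subgroup.mem_centralizer_iff]
    constructor
    · intro hg a ha
      have h := congrArg (fun e : Shrink.{0} K ≃+* Shrink.{0} K => (r (e (r.symm (T' ⟨a, ha⟩)))).1) hg
      simp only [hσ, RingEquiv.apply_symm_apply] at h
      have h' : P g * P a * P g⁻¹ = P a := by simpa [c, T', T] using h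
      rw [hmul, hmul] at h'
      have h'' : g * a * g⁻¹ * a⁻¹ = 1 := hfaith _ fun v => by
        rw [mul_smul, ← hPap, h', hPap, smul_inv_smul]
      rw [mul_inv_eq_one, mul_inv_eq_iff_eq_mul] at h''
      exact h''.symm
    · intro hg
      refine RingEquiv.ext fun k => r.injective (Subtype.ext ?_)
      rw [hσ]
      show P g * (r k).1 * P g⁻¹ = (r k).1
      have hcomm : ∀ x ∈ K, Commute (P g) x := by
        intro x hx
        induction hx using Subring.closure_induction with
        | mem x hx =>
          obtain ⟨a, rfl⟩ := hx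
          show P g * P a = P a * P g
          rw [hmul, hmul, hg a a.2]
        | zero => exact Commute.zero_right _
        | one => exact Commute.one_right _
        | add x y _ _ hx hy => exact hx.add_right hy
        | neg x _ hx => exact hx.neg_right
        | mul x y _ _ hx hy => exact hx.mul_right hy
      rw [(hcomm _ (r k).2).eq, mul_assoc, hmul, mul_inv_cancel, map_one, mul_one]

end CfsgLib.Semilinear
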