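import Cfsg.Agent.Lib.Semilinear.NormalAbelian
import Cfsg.Agent.Lib.Solvable.Core
import Cfsg.Agent.Lib.Solvable.UniqueInvolution
import Cfsg.Agent.Lib.Frobenius.ComplementSylow
import Cfsg.Agent.S0016

/-!
# Solvable groups acting freely on a finite abelian group

The subgroup `Q₈` in the centralizer of a maximal abelian normal subgroup, and the bound
`|C_G(A)| = 4 |A| r` with `r ∣ 6`.
-/

set_option autoImplicit false
set_option linter.style.haveILetI false

namespace CfsgLib.Semilinear

variable {G V : Type*} [Group G] [AddCommGroup V] [DistribMulAction G V]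

theorem smul_eq_neg_of_free (hfree : ∀ v : V, v ≠ 0 → ∀ g : G, g • v = v → g = 1) {g : G}
    (h2 : g * g = 1) (h1 : g ≠ 1) (v : V) : g • v = -v := by
  by_contra h
  refine h1 (hfree (g • v + v) (fun h' => h (eq_neg_of_add_eq_zero_left h')) g ?_)
  rw [smul_add, ← mul_smul, h2, one_smul, add_comm]

theorem faithful_of_free [Nontrivial V] (hfree : ∀ v : V, v ≠ 0 → ∀ g : G, g • v = v → g = 1)
    (g : G) (h : ∀ v : V, g • v = v) : g = 1 := by
  obtain ⟨v, hv⟩ := exists_ne (0 : V)
  exact hfree v hv g (h v)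

theorem involution_unique [Nontrivial V]
    (hfree : ∀ v : V, v ≠ 0 → ∀ g : G, g • v = v → g = 1) {g h : G}
    (hg : g * g = 1) (hg1 : g ≠ 1) (hh : h * h = 1) (hh1 : h ≠ 1) : g = h := by
  refine eq_of_mul_inv_eq_one (faithful_of_free (V := V) hfree _ fun v => ?_)
  rw [mul_smul, inv_eq_of_mul_eq_one_right hh, smul_eq_neg_of_free hfree hh hh1, smul_neg,
    smul_eq_neg_of_free hfree hg hg1, neg_neg]

theorem involution_central [Nontrivial V]
    (hfree : ∀ v : V, v ≠ 0 → ∀ g : G, g • v = v → g = 1) {z : G}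
    (hz : z * z = 1) (g : G) : g * z = z * g := by
  by_cases hz1 : z = 1
  · simp [hz1]
  refine eq_of_mul_inv_eq_one (faithful_of_free (V := V) hfree _ fun v => ?_)
  rw [mul_smul, mul_smul, smul_eq_neg_of_free hfree hz hz1, smul_neg, mul_inv_rev, mul_smul,
    inv_eq_of_mul_eq_one_right hz, smul_eq_neg_of_free hfree hz hz1, smul_neg, smul_neg, neg_neg,
    smul_inv_smul]

/-- In a group acting freely, a Sylow-type subgroup (a `p`-subgroup) is cyclic or quaternion. -/
theorem pGroup_cyclic_or_quaternion [Finite G] [Finite V] [Nontrivial V]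
    (hfree : ∀ v : V, v ≠ 0 → ∀ g : G, g • v = v → g = 1) {p : ℕ} [Fact p.Prime]
    (P : Subgroup G) (hP : IsPGroup p P) :
    IsCyclic P ∨ (p = 2 ∧ ∃ n : ℕ, Nonempty (P ≃* QuaternionGroup (2 ^ n))) := by
  refine Cfsg.Agent.S0016.result p hP fun H K hH hK => ?_
  haveI : Nontrivial P := by
    rw [← Finite.one_lt_card_iff_nontrivial]
    have := Subgroup.card_dvd_of_le (le_top : H ≤ ⊤)
    rw [hH, Subgroup.card_top] at this
    exact (Fact.out : p.Prime).one_lt.trans_le (Nat.le_of_dvd Nat.card_pos this)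
  obtain ⟨w, hw1⟩ : ∃ w : P, w ∈ Subgroup.center P ∧ orderOf w = p := by
    haveI := hP.center_nontrivial
    obtain ⟨z, hz⟩ := hP.to_subgroup (Subgroup.center P) |>.exists_card_eq
    obtain ⟨w, hw⟩ := exists_prime_orderOf_dvd_card' (G := Subgroup.center P) p (by
      rcases Nat.eq_zero_or_pos z with rfl | hz'
      · have := Finite.one_lt_card (α := Subgroup.center P)
        rw [hz, pow_zero] at this
        omega
      · rw [hz]; exact dvd_pow_self p hz'.ne')
    exact ⟨w, w.2, by rwa [Subgroup.orderOf_coe]⟩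
  have key : ∀ H : Subgroup P, Nat.card H = p → H = Subgroup.zpowers w := by
    intro H hH
    obtain ⟨hwc, hwo⟩ := hw1
    let A : Subgroup G := (H ⊔ Subgroup.zpowers w).map P.subtype
    have hHc : ∀ x ∈ H ⊔ Subgroup.zpowers w, ∀ y ∈ H ⊔ Subgroup.zpowers w, x * y = y * x := by
      haveI : IsCyclic H := isCyclic_of_prime_card hH
      have hsup : H ⊔ Subgroup.zpowers w ≤ Subgroup.closure ((H : Set P) ∪ {w}) :=
        sup_le (fun x hx => Subgroup.subset_closure (Or.inl hx))
          (by rw [Subgroup.zpowers_le]; exact Subgroup.subset_closure (Or.inr rfl))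
      haveI : IsMulCommutative (Subgroup.closure ((H : Set P) ∪ {w})) :=
        Subgroup.isMulCommutative_closure (by
          rintro x (hx | rfl) y (hy | rfl)
          · exact congrArg Subtype.val
              (IsCyclic.commGroup.mul_comm (⟨x, hx⟩ : H) ⟨y, hy⟩)
          · exact (Subgroup.mem_center_iff.1 hwc x)
          · exact (Subgroup.mem_center_iff.1 hwc y).symm
          · rfl)
      intro x hx y hy
      exact congrArg Subtype.val (mul_comm' (⟨x, hsup hx⟩ : Subgroup.closure ((H : Set P) ∪ {w})) ⟨y, hsup hy⟩)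
    haveI : IsCyclic A := isCyclic_of_free hfree A (by
      rintro _ ⟨x, hx, rfl⟩ _ ⟨y, hy, rfl⟩
      rw [← map_mul, hHc x hx y hy, map_mul])
    have h1 : (H.map P.subtype).subgroupOf A = ((Subgroup.zpowers w).map P.subtype).subgroupOf A := by
      refine CfsgLib.Frobenius.eq_of_card_eq_prime_of_isCyclic (p := p) Fact.out ?_ ?_
      · rw [Nat.card_congr (Subgroup.subgroupOfEquivOfLe (Subgroup.map_mono le_sup_left)).toEquiv,
          Subgroup.card_map_of_injective P.subtype_injective, hH]
      · rw [Nat.card_congr (Subgroup.subgroupOfEquivOfLe (Subgroup.map_mono le_sup_right)).toEquiv,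
          Subgroup.card_map_of_injective P.subtype_injective, Nat.card_zpowers, hwo]
    rw [Subgroup.subgroupOf_inj, inf_eq_left.2 (Subgroup.map_mono le_sup_left),
      inf_eq_left.2 (Subgroup.map_mono le_sup_right)] at h1
    exact Subgroup.map_injective P.subtype_injective h1
  rw [key H hH, key K hK]

/-! ### The quaternion group of order eight -/

/-- The three cyclic subgroups of order four of `Q₈`. -/
def qCls : QuaternionGroup 2 → Fin 3
  | .a _ => 0
  | .xa i => if i.val % 2 = 0 then 1 else 2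

/-- Representatives for `qCls`. -/
def qRep : Fin 3 → QuaternionGroup 2 :=
  ![QuaternionGroup.a 1, QuaternionGroup.xa 0, QuaternionGroup.xa 1]

theorem qRep_facts :
    (∀ k, qCls (qRep k) = k) ∧ (∀ k, qRep k * qRep k ≠ 1) ∧
    (∀ x : QuaternionGroup 2, x * x ≠ 1 →
      (x = qRep (qCls x) ∨ x = (qRep (qCls x))⁻¹) ∧ qCls x⁻¹ = qCls x) ∧
    (∀ u v : QuaternionGroup 2, u * u ≠ 1 → v * v ≠ 1 → qCls u = 0 → qCls v = 1 →
      ∃ c : QuaternionGroup 2,
        c * QuaternionGroup.a 1 * c⁻¹ = u ∧ c * QuaternionGroup.xa 0 * c⁻¹ = v) ∧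
    (∀ c : QuaternionGroup 2, ∀ k, qCls (c * qRep k * c⁻¹) = k) ∧
    (Finset.univ.filter fun c : QuaternionGroup 2 => ∀ x, c * x * c⁻¹ = x).card = 2 := by
  decide +kernel

/-- The action of `Aut Q₈` on the three cyclic subgroups of order four. -/
def qPermFun (φ : MulAut (QuaternionGroup 2)) : Fin 3 → Fin 3 := fun k => qCls (φ (qRep k))

theorem qPermFun_mul (φ ψ : MulAut (QuaternionGroup 2)) (k : Fin 3) :
    qPermFun (φ * ψ) k = qPermFun φ (qPermFun ψ k) := by
  obtain ⟨-, h2, h3, -, -, -⟩ := qRep_facts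
  show qCls (φ (ψ (qRep k))) = qCls (φ (qRep (qCls (ψ (qRep k)))))
  have hx : ψ (qRep k) * ψ (qRep k) ≠ 1 := by
    rw [← map_mul, ne_eq, MulEquiv.map_eq_one_iff]
    exact h2 k
  rcases (h3 _ hx).1 with h | h
  · rw [← h]
  · conv_lhs => rw [h, map_inv]
    refine (h3 _ ?_).2
    rw [← map_mul, ne_eq, MulEquiv.map_eq_one_iff]
    exact h2 _

theorem qPermFun_one (k : Fin 3) : qPermFun 1 k = k := qRep_facts.1 k

/-- `Aut Q₈ → S₃`. -/
def qPerm : MulAut (QuaternionGroup 2) →* Equiv.Perm (Fin 3) where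
  toFun φ :=
    { toFun := qPermFun φ
      invFun := qPermFun φ⁻¹
      left_inv := fun k => by rw [← qPermFun_mul, inv_mul_cancel, qPermFun_one]
      right_inv := fun k => by rw [← qPermFun_mul, mul_inv_cancel, qPermFun_one] }
  map_one' := Equiv.ext qPermFun_one
  map_mul' φ ψ := Equiv.ext (qPermFun_mul φ ψ)

theorem ker_qPerm : qPerm.ker = (MulAut.conj (G := QuaternionGroup 2)).range := by
  obtain ⟨h1, h2, -, h4, h5, -⟩ := qRep_facts
  ext φ
  constructor
  · intro hφ
    have hk : ∀ k, qCls (φ (qRep k)) = k := fun k =>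
      DFunLike.congr_fun (show qPerm φ = 1 from hφ) k
    have hne : ∀ k, φ (qRep k) * φ (qRep k) ≠ 1 := fun k => by
      rw [← map_mul, ne_eq, MulEquiv.map_eq_one_iff]
      exact h2 k
    obtain ⟨c, hc1, hc2⟩ := h4 _ _ (hne 0) (hne 1) (hk 0) (hk 1)
    refine ⟨c, MulEquiv.ext fun x => ?_⟩
    have ha : ∀ i : ZMod (2 * 2), (MulAut.conj c) (QuaternionGroup.a i) = φ (QuaternionGroup.a i) := by
      intro i
      have : (QuaternionGroup.a i : QuaternionGroup 2) = QuaternionGroup.a 1 ^ i.val := by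
        rw [QuaternionGroup.a_one_pow, ZMod.natCast_zmod_val]
      rw [this, map_pow, map_pow, MulAut.conj_apply, hc1]
      rfl
    have hx0 : (MulAut.conj c) (QuaternionGroup.xa 0) = φ (QuaternionGroup.xa 0) := by
      rw [MulAut.conj_apply, hc2]; rfl
    cases x with
    | a i => exact ha i
    | xa i =>
      rw [show (QuaternionGroup.xa i : QuaternionGroup 2) = QuaternionGroup.xa 0 * QuaternionGroup.a i by
        rw [QuaternionGroup.xa_mul_a, zero_add], map_mul, map_mul, ha, hx0]
  · rintro ⟨c, rfl⟩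
    exact Equiv.ext fun k => h5 c k

theorem card_range_conj : Nat.card (MulAut.conj (G := QuaternionGroup 2)).range = 4 := by
  have h := Subgroup.card_eq_card_quotient_mul_card_subgroup
    (MulAut.conj (G := QuaternionGroup 2)).ker
  rw [Nat.card_congr (QuotientGroup.quotientKerEquivRange _).toEquiv, Nat.card_eq_fintype_card (α := QuaternionGroup 2),
    QuaternionGroup.card] at h
  have hk : Nat.card (MulAut.conj (G := QuaternionGroup 2)).ker = 2 := by
    have he : Nat.card (MulAut.conj (G := QuaternionGroup 2)).ker =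
        Nat.card {c : QuaternionGroup 2 // ∀ x, c * x * c⁻¹ = x} :=
      Nat.card_congr (Equiv.subtypeEquivRight fun c => by
        rw [MonoidHom.mem_ker, MulEquiv.ext_iff]
        rfl)
    rw [he, Nat.card_eq_fintype_card, Fintype.card_subtype]
    exact qRep_facts.2.2.2.2.2
  rw [hk] at h
  omega

variable [Finite G] [Finite V] [Nontrivial V]

/-- A normal subgroup between a maximal abelian normal subgroup `A` and its centralizer, not equal
to `A`, contains a normal `Q₈`. -/
theorem exists_quaternion_normal [Group.IsSolvable G]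
    (hfree : ∀ v : V, v ≠ 0 → ∀ g : G, g • v = v → g = 1) (A : Subgroup G) [A.Normal]
    (hmax : ∀ B : Subgroup G, B.Normal → (∀ a ∈ B, ∀ b ∈ B, a * b = b * a) → A ≤ B → B = A)
    (N : Subgroup G) [N.Normal] (hAN : A ≤ N) (hne : N ≠ A)
    (hNC : N ≤ Subgroup.centralizer (A : Set G)) :
    ∃ Q : Subgroup G, Q.Normal ∧ Q ≤ N ∧ Nonempty (Q ≃* QuaternionGroup 2) := by
  classical
  let π := QuotientGroup.mk' A
  have hπ : Function.Surjective π := QuotientGroup.mk'_surjective A
  haveI : Group.IsSolvable (G ⧸ A) := Group.isSolvable_of_surjective hπ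
  haveI : (N.map π).Normal := Subgroup.Normal.map inferInstance π hπ
  have hNb : N.map π ≠ ⊥ := by
    rw [ne_eq, Subgroup.map_eq_bot_iff, QuotientGroup.ker_mk']
    exact fun h => hne (le_antisymm h hAN)
  obtain ⟨Ab, hAbn, hAbN, hAb1, hAbc⟩ :=
    CfsgLib.Solvable.exists_isMulCommutative_normal_le (N.map π) hNb
  let B : Subgroup G := Ab.comap π
  have hBn : B.Normal := hAbn.comap π
  have hAB : A ≤ B := fun a ha => by
    show π a ∈ Ab
    rw [show π a = 1 from (QuotientGroup.eq_one_iff a).2 ha]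
    exact one_mem _
  have hBA : B ≠ A := fun h => hAb1 (by
    rw [← Subgroup.map_comap_eq_self_of_surjective hπ Ab, show Ab.comap π = A from h,
      Subgroup.map_eq_bot_iff, QuotientGroup.ker_mk'])
  have hBN : B ≤ N := by
    refine le_trans (Subgroup.comap_mono hAbN) ?_
    rw [Subgroup.comap_map_eq, QuotientGroup.ker_mk', sup_eq_left.2 hAN]
  have hcz : ∀ a ∈ A, ∀ b ∈ B, a * b = b * a := fun a ha b hb =>
    Subgroup.mem_centralizer_iff.1 (hNC (hBN hb)) a ha
  have hcomm : ∀ x ∈ B, ∀ y ∈ B, x * y * x⁻¹ * y⁻¹ ∈ A := by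
    intro x hx y hy
    rw [← QuotientGroup.eq_one_iff]
    show π (x * y * x⁻¹ * y⁻¹) = 1
    have h : π x * π y = π y * π x :=
      congrArg Subtype.val (mul_comm' (⟨π x, hx⟩ : Ab) ⟨π y, hy⟩)
    rw [map_mul, map_mul, map_mul, map_inv, map_inv, h]
    group
  have hnil : Group.IsNilpotent B := by
    let f : B →* Ab := (π.comp B.subtype).codRestrict Ab fun b => b.2
    haveI : Group.IsNilpotent Ab := CfsgLib.Solvable.isNilpotent_of_comm mul_comm'
    refine Subgroup.isNilpotent_of_ker_le_center f fun b hb => Subgroup.mem_center_iff.2 fun c => ?_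
    refine Subtype.ext ?_
    exact (hcz b ((QuotientGroup.eq_one_iff _).1 (congrArg Subtype.val hb)) c c.2).symm
  obtain ⟨p, hp, P, hPc⟩ : ∃ (p : ℕ) (_ : p.Prime) (P : Sylow p B), ¬ IsCyclic (P : Subgroup B) := by
    by_contra h
    push Not at h
    haveI : IsZGroup B := ⟨fun p hp P => h p hp P⟩
    letI : IsCyclic B := inferInstance
    refine hBA (hmax B hBn (fun a ha b hb => ?_) hAB)
    exact congrArg Subtype.val (IsCyclic.commGroup.mul_comm (⟨a, ha⟩ : B) ⟨b, hb⟩)
  haveI : Fact p.Prime := ⟨hp⟩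
  haveI : (P : Subgroup B).Normal := ((Group.isNilpotent_of_finite_tfae (G := B)).out 0 3 rfl rfl).1 hnil p inferInstance P
  haveI : (P : Subgroup B).Characteristic := P.characteristic_of_normal inferInstance
  haveI := hBn
  let Q : Subgroup G := (P : Subgroup B).map B.subtype
  have hQn : Q.Normal := CfsgLib.Solvable.normal_map_subtype_of_characteristic B P
  let eQ : (P : Subgroup B) ≃* Q :=
    (P : Subgroup B).equivMapOfInjective B.subtype B.subtype_injective
  refine ⟨Q, hQn, le_trans (Subgroup.map_subtype_le _) hBN, ?_⟩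
  rcases pGroup_cyclic_or_quaternion hfree Q (P.isPGroup'.of_equiv eQ) with hc | ⟨-, n, ⟨e⟩⟩
  · exact absurd (isCyclic_of_surjective eQ.symm eQ.symm.surjective) hPc
  · match n with
    | 0 =>
      haveI : IsCyclic (QuaternionGroup (2 ^ 0)) := QuaternionGroup.quaternionGroup_one_isCyclic
      exact absurd (isCyclic_of_surjective (eQ.trans e).symm (eQ.trans e).symm.surjective) hPc
    | 1 => exact ⟨e⟩
    | n + 2 =>
      exfalso
      let u : (P : Subgroup B) := (eQ.trans e).symm (QuaternionGroup.a 1)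
      let v : (P : Subgroup B) := (eQ.trans e).symm (QuaternionGroup.xa 0)
      have hA' := hcomm ((u : B) : G) (u : B).2 ((v : B) : G) (v : B).2
      have hc : Commute (u * v * u⁻¹ * v⁻¹) v :=
        Subtype.ext (Subtype.ext (hcz _ hA' _ (v : B).2))
      have hc' := hc.map (eQ.trans e)
      simp only [map_mul, map_inv, u, v, MulEquiv.apply_symm_apply] at hc'
      have h4 : ((4 : ℕ) : ZMod (2 * 2 ^ (n + 2))) = 0 := by
        have hxi : (QuaternionGroup.xa (0 : ZMod (2 * 2 ^ (n + 2))))⁻¹ =
            QuaternionGroup.xa ((2 ^ (n + 2) : ℕ) + 0) := rfl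
        have hai : (QuaternionGroup.a (1 : ZMod (2 * 2 ^ (n + 2))))⁻¹ =
            QuaternionGroup.a (-1) := rfl
        rw [hxi, hai] at hc'
        simp only [Commute, SemiconjBy, QuaternionGroup.a_mul_xa, QuaternionGroup.xa_mul_a,
          QuaternionGroup.xa_mul_xa, QuaternionGroup.xa.injEq] at hc'
        have h0 : ((2 * 2 ^ (n + 2) : ℕ) : ZMod (2 * 2 ^ (n + 2))) = 0 := ZMod.natCast_self _
        push_cast at hc' h0 ⊢
        linear_combination (-1 : ZMod (2 * 2 ^ (n + 2))) * hc' - 2 * h0
      have := Nat.le_of_dvd (by norm_num) ((ZMod.natCast_eq_zero_iff _ _).1 h4)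
      have h2 : 4 ≤ 2 ^ (n + 2) := by
        rw [pow_add]; exact Nat.le_mul_of_pos_left _ (pow_pos (by norm_num) n)
      omega

/-- The structure of `C = C_G(A)` when it is larger than the maximal abelian normal subgroup `A`. -/
theorem exists_perm_three [Group.IsSolvable G]
    (hfree : ∀ v : V, v ≠ 0 → ∀ g : G, g • v = v → g = 1) (A : Subgroup G) [A.Normal]
    (hA : ∀ a ∈ A, ∀ b ∈ A, a * b = b * a)
    (hmax : ∀ B : Subgroup G, B.Normal → (∀ a ∈ B, ∀ b ∈ B, a * b = b * a) → A ≤ B → B = A)
    (hne : Subgroup.centralizer (A : Set G) ≠ A) :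
    ∃ (Q : Subgroup G) (t : G →* Equiv.Perm (Fin 3)), Q.Normal ∧
      Nonempty (Q ≃* QuaternionGroup 2) ∧ Q ≤ Subgroup.centralizer (A : Set G) ∧
      Subgroup.centralizer (A : Set G) ⊓ Subgroup.centralizer (Q : Set G) = A ∧
      2 ∣ Nat.card A ∧
      Nat.card (Subgroup.centralizer (A : Set G)) =
        4 * Nat.card A * Nat.card ((Subgroup.centralizer (A : Set G)).map t) := by
  classical
  set C := Subgroup.centralizer (A : Set G) with hC
  have hAC : A ≤ C := fun a ha => Subgroup.mem_centralizer_iff.2 fun b hb => hA b hb a ha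
  haveI hCn : C.Normal := Subgroup.normal_centralizer
  obtain ⟨Q, hQn, hQC, ⟨e⟩⟩ := exists_quaternion_normal hfree A hmax C hAC hne le_rfl
  have hsq : ∀ {Q' : Subgroup G} (e' : Q' ≃* QuaternionGroup 2) (x : Q'),
      e' x = QuaternionGroup.a 1 →
      ((x : G) * x) * ((x : G) * x) = 1 ∧ (x : G) * x ≠ 1 := by
    intro Q' e' x hx
    constructor
    · have : (x * x) * (x * x) = 1 := e'.injective (by rw [map_mul, map_mul, hx, map_one]; decide)
      exact congrArg Subtype.val this
    · intro h
      have : x * x = 1 := Subtype.ext h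
      have := congrArg e' this
      rw [map_mul, hx, map_one] at this
      exact absurd this (by decide)
  let x : Q := e.symm (QuaternionGroup.a 1)
  let y : Q := e.symm (QuaternionGroup.xa 0)
  have hxy : (x : G) * y ≠ y * x := fun h => by
    have h' : x * y = y * x := Subtype.ext h
    have := congrArg e h'
    simp only [x, y, map_mul, MulEquiv.apply_symm_apply] at this
    exact absurd this (by decide)
  obtain ⟨hx4, hx2⟩ := hsq e x (by simp [x])
  have hCQ : C ⊓ Subgroup.centralizer (Q : Set G) = A := by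
    haveI := hQn
    haveI : (C ⊓ Subgroup.centralizer (Q : Set G)).Normal := inferInstance
    have hAle : A ≤ C ⊓ Subgroup.centralizer (Q : Set G) := le_inf hAC fun a ha =>
      Subgroup.mem_centralizer_iff.2 fun q hq =>
        (Subgroup.mem_centralizer_iff.1 (hQC hq) a ha).symm
    by_contra hne'
    obtain ⟨Q', -, hQ'C, ⟨e'⟩⟩ := exists_quaternion_normal hfree A hmax _ hAle hne' inf_le_left
    let x' : Q' := e'.symm (QuaternionGroup.a 1)
    obtain ⟨hx'4, hx'2⟩ := hsq e' x' (by simp [x'])
    have hz := involution_unique (V := V) hfree hx4 hx2 hx'4 hx'2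
    have hcm : ∀ q ∈ Q, q * (x' : G) = x' * q := fun q hq =>
      Subgroup.mem_centralizer_iff.1 (inf_le_right (a := C) (hQ'C x'.2)) q hq
    have hu : ((x : G) * (x' : G)⁻¹) * ((x : G) * (x' : G)⁻¹) = 1 := by
      have h1 : Commute (x : G) (x' : G)⁻¹ := (Commute.inv_right (hcm x x.2))
      rw [← pow_two, h1.mul_pow, pow_two, hz, inv_pow, pow_two, mul_inv_cancel]
    have h2 := involution_central (V := V) hfree hu (y : G)
    apply hxy
    calc (x : G) * y = ((x : G) * (x' : G)⁻¹) * ((x' : G) * y) := by group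
      _ = ((x : G) * (x' : G)⁻¹) * ((y : G) * x') := by rw [hcm y y.2]
      _ = (((x : G) * (x' : G)⁻¹) * y) * x' := by group
      _ = ((y : G) * ((x : G) * (x' : G)⁻¹)) * x' := by rw [← h2]
      _ = (y : G) * x := by group
  haveI := hQn
  let Ψ : G →* MulAut (QuaternionGroup 2) := (MulAut.congr e).toMonoidHom.comp MulAut.conjNormal
  have hΨ : ∀ (g : G) (u : QuaternionGroup 2), Ψ g u = e (MulAut.conjNormal g (e.symm u)) :=
    fun g u => rfl
  have hΨQ : ∀ w : Q, Ψ w = MulAut.conj (e w) := fun w => MulEquiv.ext fun u => by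
    rw [hΨ, MulAut.conj_apply, ← e.apply_symm_apply u, ← map_inv, ← map_mul, ← map_mul,
      e.apply_symm_apply]
    congr 1
  have hΨker : ∀ g : G, Ψ g = 1 ↔ g ∈ Subgroup.centralizer (Q : Set G) := by
    intro g
    rw [Subgroup.mem_centralizer_iff]
    constructor
    · intro h q hq
      have h' := DFunLike.congr_fun h (e ⟨q, hq⟩)
      rw [hΨ, e.symm_apply_apply, MulAut.one_apply] at h'
      have h'' := congrArg Subtype.val (e.injective h')
      rw [MulAut.conjNormal_apply] at h''
      exact (mul_inv_eq_iff_eq_mul.1 h'').symm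
    · intro h
      refine MulEquiv.ext fun u => ?_
      rw [hΨ, MulAut.one_apply]
      conv_rhs => rw [← e.apply_symm_apply u]
      congr 1
      refine Subtype.ext ?_
      rw [MulAut.conjNormal_apply, ← h _ (e.symm u).2, mul_inv_cancel_right]
  let t : G →* Equiv.Perm (Fin 3) := qPerm.comp Ψ
  refine ⟨Q, t, hQn, ⟨e⟩, hQC, hCQ, ?_, ?_⟩
  · have hzA : (x : G) * x ∈ A := by
      rw [← hCQ]
      refine ⟨mul_mem (hQC x.2) (hQC x.2), Subgroup.mem_centralizer_iff.2 fun q _ => ?_⟩
      exact involution_central (V := V) hfree hx4 q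
    have ho : orderOf (⟨(x : G) * x, hzA⟩ : A) = 2 :=
      orderOf_eq_prime (by rw [pow_two]; exact Subtype.ext hx4)
        fun h => hx2 (congrArg Subtype.val h)
    exact ho ▸ orderOf_dvd_natCard _
  · let D : Subgroup C := (t.comp C.subtype).ker
    have h1 : Nat.card C = Nat.card (C.map t) * Nat.card D := by
      rw [Subgroup.card_eq_card_quotient_mul_card_subgroup D,
        Nat.card_congr (QuotientGroup.quotientKerEquivRange (t.comp C.subtype)).toEquiv,
        MonoidHom.range_comp, Subgroup.range_subtype]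
    let f : D →* MulAut (QuaternionGroup 2) := Ψ.comp (C.subtype.comp D.subtype)
    have hfr : f.range = (MulAut.conj (G := QuaternionGroup 2)).range := by
      apply le_antisymm
      · rintro _ ⟨g, rfl⟩
        rw [← ker_qPerm]
        exact g.2
      · rintro _ ⟨c, rfl⟩
        refine ⟨⟨⟨_, hQC (e.symm c).2⟩, ?_⟩, ?_⟩
        · show qPerm (Ψ (e.symm c : G)) = 1
          rw [hΨQ, e.apply_symm_apply, ← MonoidHom.mem_ker, ker_qPerm]
          exact ⟨c, rfl⟩
        · show Ψ (e.symm c : G) = _
          rw [hΨQ, e.apply_symm_apply]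
    have hfk : Nat.card f.ker = Nat.card A := by
      refine Nat.card_congr
        { toFun := fun g => ⟨((g : D) : C), hCQ ▸ ⟨((g : D) : C).2, (hΨker _).1 g.2⟩⟩
          invFun := fun a => ⟨⟨⟨a, hAC a.2⟩, ?_⟩, ?_⟩
          left_inv := fun g => rfl
          right_inv := fun a => rfl }
      · show qPerm (Ψ a) = 1
        rw [(hΨker _).2 ((hCQ.symm ▸ a.2 : (a : G) ∈ C ⊓ Subgroup.centralizer (Q : Set G)).2),
          map_one]
      · exact (hΨker _).2 ((hCQ.symm ▸ a.2 : (a : G) ∈ C ⊓ Subgroup.centralizer (Q : Set G)).2)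
    rw [h1, Subgroup.card_eq_card_quotient_mul_card_subgroup f.ker,
      Nat.card_congr (QuotientGroup.quotientKerEquivRange f).toEquiv, hfr, card_range_conj, hfk]
    ring

end CfsgLib.Semilinear
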