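import Cfsg.Agent.Lib.Semilinear.NormalAbelian
import Cfsg.Agent.Lib.Solvable.Core

/-!
# The layer above a maximal abelian normal subgroup of a transitive solvable linear group

`A` is a maximal abelian normal subgroup acting by scalars of a field `F`, `B / A` an elementary
abelian chief factor inside `C = C_G(A)`.
-/

set_option autoImplicit false
set_option linter.style.haveILetI false

open scoped Pointwise

namespace CfsgLib.Semilinear

/-- If `E / Z(E)` is elementary abelian and the commutators lie in a cyclic group, then the index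
of the centre is a square. -/
theorem center_index_square {s : ℕ} (hs : s.Prime) :
    ∀ (n : ℕ) (E : Type*) [Group E] [Finite E], Nat.card E ≤ n →
      (∀ a b : E, a * b * a⁻¹ * b⁻¹ ∈ Subgroup.center E) →
      (∀ a : E, a ^ s ∈ Subgroup.center E) →
      Nat.card {z : E // z ∈ Subgroup.center E ∧ z ^ s = 1} ≤ s →
      ∃ h : ℕ, (Subgroup.center E).index = s ^ (2 * h) := by
  intro n
  induction n with
  | zero => intro E _ _ h; have := Nat.card_pos (α := E); omega
  | succ n ih =>
    intro E _ _ hn hcomm hpow hroot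
    by_cases hab : ∀ a b : E, a * b = b * a
    · refine ⟨0, ?_⟩
      rw [mul_zero, pow_zero, Subgroup.index_eq_one, eq_top_iff]
      exact fun a _ => Subgroup.mem_center_iff.2 fun b => hab b a
    push Not at hab
    obtain ⟨x, y, hxy⟩ := hab
    let κ : E → (E →* Subgroup.center E) := fun x =>
      MonoidHom.mk' (fun e => ⟨x * e * x⁻¹ * e⁻¹, hcomm x e⟩) (fun e f => Subtype.ext (by
        have h := Subgroup.mem_center_iff.1 (hcomm x f) e
        show x * (e * f) * x⁻¹ * (e * f)⁻¹ = (x * e * x⁻¹ * e⁻¹) * (x * f * x⁻¹ * f⁻¹)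
        calc x * (e * f) * x⁻¹ * (e * f)⁻¹
            = (x * e * x⁻¹) * (x * f * x⁻¹ * f⁻¹) * e⁻¹ := by group
          _ = (x * e * x⁻¹ * e⁻¹) * (e * (x * f * x⁻¹ * f⁻¹)) * e⁻¹ := by group
          _ = (x * e * x⁻¹ * e⁻¹) * ((x * f * x⁻¹ * f⁻¹) * e) * e⁻¹ := by rw [h]
          _ = _ := by group))
    have hκ : ∀ z e : E, ((κ z e : Subgroup.center E) : E) = z * e * z⁻¹ * e⁻¹ := fun _ _ => rfl
    have hks : ∀ z e : E, κ z e ^ s = 1 := fun z e => by
      rw [← map_pow]
      refine Subtype.ext ?_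
      rw [hκ, Subgroup.mem_center_iff.1 (hpow e) z, mul_inv_cancel_right, mul_inv_cancel]
      rfl
    have hrange : ∀ z : E, Nat.card (κ z).range ≤ s := by
      intro z
      refine le_trans (Nat.card_le_card_of_injective
        (fun u => (⟨(u.1 : E), u.1.2, ?_⟩ : {z : E // z ∈ Subgroup.center E ∧ z ^ s = 1})) ?_) hroot
      · obtain ⟨e, he⟩ := u.2
        rw [← he]
        exact congrArg Subtype.val (hks z e)
      · intro u v h
        have := congrArg Subtype.val h
        exact Subtype.ext (Subtype.ext this)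
    set c := κ x y with hcdef
    have hc1 : c ≠ 1 := fun h => hxy (by
      have h' := congrArg Subtype.val h
      rw [hcdef, hκ] at h'
      exact mul_inv_eq_iff_eq_mul.1 (mul_inv_eq_one.1 h'))
    haveI : Fact s.Prime := ⟨hs⟩
    have hco : orderOf c = s := orderOf_eq_prime (hks x y) hc1
    have hyx : κ y x = c⁻¹ := Subtype.ext (by
      rw [Subgroup.coe_inv, hcdef, hκ, hκ]; group)
    have hself : ∀ z : E, κ z z = 1 := fun z => Subtype.ext (by
      rw [hκ, mul_inv_cancel_right, mul_inv_cancel]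
      rfl)
    let P : E →* Subgroup.center E × Subgroup.center E := (κ x).prod (κ y)
    have hPr : P.range = (Subgroup.zpowers c).prod (Subgroup.zpowers c) := by
      symm
      refine Subgroup.eq_of_le_of_card_ge ?_ ?_
      · rintro ⟨u, v⟩ ⟨hu, hv⟩
        obtain ⟨i, rfl⟩ := Subgroup.mem_zpowers_iff.1 hu
        obtain ⟨j, rfl⟩ := Subgroup.mem_zpowers_iff.1 hv
        refine ⟨y ^ i * x ^ (-j), ?_⟩
        simp only [P, MonoidHom.prod_apply, map_mul, map_zpow, hself, hyx, ← hcdef, Prod.pow_mk,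
          Prod.mk_mul_mk, one_zpow, mul_one, one_mul, inv_zpow', neg_neg]
      · refine le_trans (Nat.card_le_card_of_injective
          (fun u => ((⟨u.1.1, ?_⟩ : (κ x).range), (⟨u.1.2, ?_⟩ : (κ y).range))) ?_) ?_
        · obtain ⟨e, he⟩ := u.2; exact ⟨e, congrArg Prod.fst he⟩
        · obtain ⟨e, he⟩ := u.2; exact ⟨e, congrArg Prod.snd he⟩
        · intro u v h
          have h1 := congrArg (fun z => ((z.1 : (κ x).range) : Subgroup.center E)) h
          have h2 := congrArg (fun z => ((z.2 : (κ y).range) : Subgroup.center E)) h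
          exact Subtype.ext (Prod.ext h1 h2)
        · rw [Nat.card_prod, Nat.card_congr (Subgroup.prodEquiv _ _).toEquiv, Nat.card_prod,
            Nat.card_zpowers, hco]
          exact Nat.mul_le_mul (hrange x) (hrange y)
    have hidx : P.ker.index = s * s := by
      rw [Subgroup.index_ker, hPr, Nat.card_congr (Subgroup.prodEquiv _ _).toEquiv, Nat.card_prod,
        Nat.card_zpowers, hco]
    have hZle : Subgroup.center E ≤ P.ker := fun z hz => by
      rw [MonoidHom.mem_ker]
      have : ∀ w, κ w z = 1 := fun w => Subtype.ext (by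
        rw [hκ, Subgroup.mem_center_iff.1 hz w, mul_inv_cancel_right, mul_inv_cancel]; rfl)
      simp [P, this]
    have hZH : Subgroup.center P.ker = (Subgroup.center E).subgroupOf P.ker := by
      ext h
      rw [Subgroup.mem_subgroupOf, Subgroup.mem_center_iff, Subgroup.mem_center_iff]
      refine ⟨fun hh e => ?_, fun hh e => Subtype.ext (hh e)⟩
      have hcx : ∀ z : E, κ z h = 1 → Commute z (h : E) := fun z hz => by
        have h' := congrArg Subtype.val hz
        rw [hκ] at h'
        exact mul_inv_eq_iff_eq_mul.1 (mul_inv_eq_one.1 h')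
      have hh2 : κ x h = 1 ∧ κ y h = 1 := by
        have := h.2
        rw [MonoidHom.mem_ker] at this
        exact ⟨congrArg Prod.fst this, congrArg Prod.snd this⟩
      obtain ⟨⟨i, hi⟩, j, hj⟩ : (P e).1 ∈ Subgroup.zpowers c ∧ (P e).2 ∈ Subgroup.zpowers c := by
        have : P e ∈ P.range := ⟨e, rfl⟩
        rw [hPr] at this
        exact this
      have hker : e * (y ^ i * x ^ (-j))⁻¹ ∈ P.ker := by
        rw [MonoidHom.mem_ker, map_mul, map_inv, mul_inv_eq_one]
        refine Prod.ext ?_ ?_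
        · rw [← hi]; simp [P, hself, ← hcdef]
        · rw [← hj]; simp [P, hself, hyx, inv_zpow', neg_neg]
      have h1 : Commute (e * (y ^ i * x ^ (-j))⁻¹) (h : E) :=
        congrArg Subtype.val (hh ⟨_, hker⟩)
      have h2 := h1.mul_left (((hcx y hh2.2).zpow_left i).mul_left ((hcx x hh2.1).zpow_left (-j)))
      rw [inv_mul_cancel_right] at h2
      exact h2
    have hlt : Nat.card P.ker ≤ n := by
      have h := Subgroup.card_mul_index P.ker
      rw [hidx] at h
      have h4 : 2 * Nat.card P.ker ≤ Nat.card E := by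
        rw [← h, mul_comm]
        exact Nat.mul_le_mul_left _ (by nlinarith [hs.two_le])
      have := Nat.card_pos (α := P.ker)
      omega
    obtain ⟨k, hk⟩ := ih P.ker hlt
      (fun a b => by rw [hZH]; exact hcomm a b)
      (fun a => by rw [hZH]; exact hpow a)
      (le_trans (Nat.card_le_card_of_injective
        (fun u => (⟨((u.1 : P.ker) : E), by
          exact (SetLike.ext_iff.1 hZH u.1).1 u.2.1, congrArg Subtype.val u.2.2⟩ :
          {z : E // z ∈ Subgroup.center E ∧ z ^ s = 1}))
        (fun u v h => by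
          have := congrArg Subtype.val h
          exact Subtype.ext (Subtype.ext this))) hroot)
    refine ⟨k + 1, ?_⟩
    rw [← Subgroup.relIndex_mul_index hZle, hidx, Subgroup.relIndex, ← hZH, hk,
      mul_add, pow_add, mul_one, pow_two]

/-- A finite group of prime-power order with a single fixed point. -/
theorem dvd_card_sub_one {H α : Type*} [Group H] [MulAction H α] [Finite α] {r : ℕ}
    [Fact r.Prime] (hH : IsPGroup r H) (a : α) (ha : ∀ b : α, (∀ g : H, g • b = b) ↔ b = a) :
    r ∣ Nat.card α - 1 := by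
  have h := hH.card_modEq_card_fixedPoints α
  have h1 : Nat.card (MulAction.fixedPoints H α) = 1 := by
    rw [Nat.card_eq_one_iff_unique]
    exact ⟨⟨fun u v => Subtype.ext (((ha u).1 u.2).trans ((ha v).1 v.2).symm)⟩,
      ⟨⟨a, (ha a).2 rfl⟩⟩⟩
  rw [h1] at h
  haveI : Nonempty α := ⟨a⟩
  exact (Nat.modEq_iff_dvd' Nat.card_pos).1 h.symm

variable {G : Type*} [Group G]

/-- A chief factor `B / A` above the maximal abelian normal subgroup `A`, centralising `A`. -/
structure Layer (A B : Subgroup G) (s : ℕ) : Prop where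
  prime : s.Prime
  le : A ≤ B
  ne : B ≠ A
  cent : ∀ a ∈ A, ∀ b ∈ B, a * b = b * a
  comm : ∀ b ∈ B, ∀ c ∈ B, b * c * b⁻¹ * c⁻¹ ∈ A
  pow : ∀ b ∈ B, b ^ s ∈ A
  center : ∀ b ∈ B, (∀ c ∈ B, b * c = c * b) → b ∈ A

theorem exists_layer [Finite G] [Group.IsSolvable G] (A : Subgroup G) [A.Normal]
    (hA : ∀ a ∈ A, ∀ b ∈ A, a * b = b * a)
    (hmax : ∀ B : Subgroup G, B.Normal → (∀ a ∈ B, ∀ b ∈ B, a * b = b * a) → A ≤ B → B = A)
    (hne : Subgroup.centralizer (A : Set G) ≠ A) :
    ∃ (B : Subgroup G) (s : ℕ), B.Normal ∧ B ≤ Subgroup.centralizer (A : Set G) ∧ Layer A B s := by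
  set C := Subgroup.centralizer (A : Set G) with hC
  have hAC : A ≤ C := fun a ha => Subgroup.mem_centralizer_iff.2 fun b hb => hA b hb a ha
  let π := QuotientGroup.mk' A
  have hπ : Function.Surjective π := QuotientGroup.mk'_surjective A
  haveI : Group.IsSolvable (G ⧸ A) := Group.isSolvable_of_surjective hπ
  haveI : C.Normal := Subgroup.normal_centralizer
  haveI : (C.map π).Normal := Subgroup.Normal.map inferInstance π hπ
  have hCb : C.map π ≠ ⊥ := by
    rw [ne_eq, Subgroup.map_eq_bot_iff, QuotientGroup.ker_mk']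
    exact fun h => hne (le_antisymm h hAC)
  obtain ⟨N, hN, hN1, hNC, hNmin⟩ := CfsgLib.Solvable.exists_minimal_normal_le (C.map π) hCb
  haveI := hN
  obtain ⟨hNc, s, hs, hNp⟩ := CfsgLib.Solvable.minimal_normal_elementary_abelian N hN1 hNmin
  let B : Subgroup G := N.comap π
  have hBn : B.Normal := hN.comap π
  have hAB : A ≤ B := fun a ha => by
    show π a ∈ N
    rw [show π a = 1 from (QuotientGroup.eq_one_iff a).2 ha]
    exact one_mem _
  have hBC : B ≤ C := by
    refine le_trans (Subgroup.comap_mono hNC) ?_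
    rw [Subgroup.comap_map_eq, QuotientGroup.ker_mk', sup_eq_left.2 hAC]
  have hBA : B ≠ A := fun h => hN1 (by
    rw [← Subgroup.map_comap_eq_self_of_surjective hπ N, show N.comap π = A from h,
      Subgroup.map_eq_bot_iff, QuotientGroup.ker_mk'])
  refine ⟨B, s, hBn, hBC, hs, hAB, hBA,
    fun a ha b hb => Subgroup.mem_centralizer_iff.1 (hBC hb) a ha, fun b hb c hc => ?_,
    fun b hb => ?_, fun b hb hcent => ?_⟩
  · rw [← QuotientGroup.eq_one_iff]
    show π (b * c * b⁻¹ * c⁻¹) = 1
    have h : π b * π c = π c * π b := congrArg Subtype.val (mul_comm' (⟨π b, hb⟩ : N) ⟨π c, hc⟩)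
    rw [map_mul, map_mul, map_mul, map_inv, map_inv, h]
    group
  · rw [← QuotientGroup.eq_one_iff]
    show π (b ^ s) = 1
    rw [map_pow]
    exact hNp _ hb
  · haveI := hBn
    let Z : Subgroup G := B ⊓ Subgroup.centralizer (B : Set G)
    have hAZ : A ≤ Z := le_inf hAB fun a ha =>
      Subgroup.mem_centralizer_iff.2 fun c hc =>
        (Subgroup.mem_centralizer_iff.1 (hBC hc) a ha).symm
    rw [← hmax Z inferInstance (fun u hu v hv => Subgroup.mem_centralizer_iff.1 hv.2 u hu.1) hAZ]
    exact ⟨hb, Subgroup.mem_centralizer_iff.2 fun c hc => (hcent c hc).symm⟩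

variable [Finite G] {V : Type*} [AddCommGroup V] [DistribMulAction G V] {F : Type*} [Field F]
  [Module F V]

/-- The `F`-linear map of an element commuting with `F`. -/
def linAct {C : Subgroup G} (hlin : ∀ g ∈ C, ∀ (f : F) (v : V), g • f • v = f • g • v) :
    C →* Module.End F V where
  toFun g := { toFun := fun v => (g : G) • v
               map_add' := fun v w => smul_add _ v w
               map_smul' := fun f v => hlin g g.2 f v }
  map_one' := by ext v; simp
  map_mul' g h := by ext v; simp [mul_smul]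

/-- `|B / A| ≤ m ^ 2`; in case of equality the elements centralising `B` are scalars. -/
theorem Layer.card_le [Finite V] {A B C : Subgroup G} {s : ℕ} (L : Layer A B s) [A.Normal]
    (hBC : B ≤ C) (hlin : ∀ g ∈ C, ∀ (f : F) (v : V), g • f • v = f • g • v) (ι : A →* F)
    (hι : ∀ (a : A) (v : V), ι a • v = (a : G) • v) (hιi : Function.Injective ι)
    [Nontrivial V] :
    Nat.card (B.map (QuotientGroup.mk' A)) ≤ Module.finrank F V * Module.finrank F V ∧
    (Nat.card (B.map (QuotientGroup.mk' A)) = Module.finrank F V * Module.finrank F V →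
      ∀ g ∈ C, (∀ b ∈ B, g * b = b * g) → ∀ g' ∈ C, ∀ v : V, g • g' • v = g' • g • v) := by
  classical
  haveI : Module.Finite F V := Module.Finite.of_finite
  let π := QuotientGroup.mk' A
  let W := B.map π
  haveI : Fintype W := Fintype.ofFinite W
  choose t ht using fun w : W => Subgroup.mem_map.1 w.2
  let T : W → Module.End F V := fun w => linAct hlin ⟨t w, hBC (ht w).1⟩
  let χ : W → (B →* F) := fun w =>
    ({ toFun := fun u => ι ⟨(u : G) * t w * (u : G)⁻¹ * (t w)⁻¹, L.comm _ u.2 _ (ht w).1⟩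
       map_one' := by rw [← map_one ι]; exact congrArg ι (Subtype.ext (by simp))
       map_mul' :=
      fun u u' => by
        rw [← map_mul]
        congr 1
        refine Subtype.ext ?_
        have h := L.cent _ (L.comm _ u'.2 _ (ht w).1) _ u.2
        show (u : G) * u' * t w * ((u : G) * u')⁻¹ * (t w)⁻¹ =
          ((u : G) * t w * (u : G)⁻¹ * (t w)⁻¹) * ((u' : G) * t w * (u' : G)⁻¹ * (t w)⁻¹)
        have h2 := L.cent _ (L.comm _ u'.2 _ (ht w).1) _ (L.le (L.comm _ u.2 _ (ht w).1))
        calc (u : G) * u' * t w * ((u : G) * u')⁻¹ * (t w)⁻¹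
            = (u : G) * ((u' : G) * t w * (u' : G)⁻¹ * (t w)⁻¹) * (t w * (u : G)⁻¹ * (t w)⁻¹) := by
              group
          _ = ((u' : G) * t w * (u' : G)⁻¹ * (t w)⁻¹) * u * (t w * (u : G)⁻¹ * (t w)⁻¹) := by
              rw [h]
          _ = ((u' : G) * t w * (u' : G)⁻¹ * (t w)⁻¹) * ((u : G) * t w * (u : G)⁻¹ * (t w)⁻¹) := by
              group
          _ = _ := h2 } : B →* F)
  have hχ : Function.Injective χ := by
    intro w w' h
    have hmem : (t w')⁻¹ * t w ∈ A := by
      refine L.center _ (mul_mem (inv_mem (ht w').1) (ht w).1) fun u hu => ?_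
      have h' : u * t w * u⁻¹ * (t w)⁻¹ = u * t w' * u⁻¹ * (t w')⁻¹ :=
        congrArg Subtype.val (hιi (DFunLike.congr_fun h (⟨u, hu⟩ : B)))
      have e1 : u * ((t w')⁻¹ * t w) * u⁻¹ =
          (u * t w' * u⁻¹ * (t w')⁻¹ * t w')⁻¹ * (u * t w * u⁻¹ * (t w)⁻¹ * t w) := by group
      rw [← h'] at e1
      have e2 : u * ((t w')⁻¹ * t w) * u⁻¹ = (t w')⁻¹ * t w := by rw [e1]; group
      exact (mul_inv_eq_iff_eq_mul.1 e2).symm
    refine Subtype.ext ?_
    rw [← (ht w).2, ← (ht w').2]
    exact ((QuotientGroup.eq (s := A)).2 hmem).symm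
  have hind : LinearIndependent F T := by
    rw [Fintype.linearIndependent_iff]
    intro c hc w
    by_contra hcw
    obtain ⟨v, hv⟩ := exists_ne (0 : V)
    obtain ⟨f, hf⟩ : ∃ f : V →ₗ[F] F, f (c w • (t w • v)) ≠ 0 := by
      by_contra h
      push Not at h
      have h0 : c w • (t w • v) = 0 := (Module.forall_dual_apply_eq_zero_iff F _).1 h
      exact hv ((smul_eq_zero_iff_eq (t w)).1 ((smul_eq_zero.1 h0).resolve_left hcw))
    have hsum : ∑ j, (c j * f (t j • v)) • ((χ j : B → F)) = 0 := by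
      funext u
      rw [Finset.sum_apply, Pi.zero_apply]
      have h0 := DFunLike.congr_fun hc ((u : G)⁻¹ • v)
      rw [LinearMap.sum_apply, LinearMap.zero_apply] at h0
      have h1 := congrArg (fun x => f ((u : G) • x)) h0
      simp only [Finset.smul_sum, smul_zero, map_sum, map_zero] at h1
      rw [← h1]
      refine Finset.sum_congr rfl fun j _ => ?_
      have hu : (u : G) • (c j • T j) ((u : G)⁻¹ • v) = c j • (χ j u • (t j • v)) := by
        show (u : G) • c j • (t j • (u : G)⁻¹ • v) = _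
        rw [hlin u (hBC u.2)]
        congr 1
        show _ = ι ⟨(u : G) * t j * (u : G)⁻¹ * (t j)⁻¹, L.comm _ u.2 _ (ht j).1⟩ • (t j • v)
        rw [hι, ← mul_smul, ← mul_smul, ← mul_smul]
        show ((u : G) * t j * (u : G)⁻¹) • v = ((u : G) * t j * (u : G)⁻¹ * (t j)⁻¹ * t j) • v
        rw [inv_mul_cancel_right]
      rw [hu, LinearMap.map_smul, LinearMap.map_smul, Pi.smul_apply, smul_eq_mul, smul_eq_mul, smul_eq_mul]
      ring
    have hli := Fintype.linearIndependent_iff.1
      ((linearIndependent_monoidHom B F).comp χ hχ) (fun j => c j * f (t j • v)) hsum w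
    apply hf
    rw [LinearMap.map_smul, smul_eq_mul]
    exact hli
  have hfr : Module.finrank F (Module.End F V) = Module.finrank F V * Module.finrank F V :=
    Module.finrank_linearMap F F V V
  refine ⟨?_, fun heq g hg hgB g' hg' v => ?_⟩
  · rw [Nat.card_eq_fintype_card, ← hfr]
    exact hind.fintype_card_le_finrank
  · have hspan := hind.span_eq_top_of_card_eq_finrank'
      (by rw [← Nat.card_eq_fintype_card, hfr]; exact heq)
    let X : Module.End F V := linAct hlin ⟨g, hg⟩
    have hall : ∀ Y : Module.End F V, X * Y = Y * X := by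
      intro Y
      have hY : Y ∈ Submodule.span F (Set.range T) := hspan ▸ Submodule.mem_top
      induction hY using Submodule.span_induction with
      | mem Y hY =>
        obtain ⟨w, rfl⟩ := hY
        show X * T w = T w * X
        rw [← map_mul, ← map_mul]
        congr 1
        exact Subtype.ext (hgB _ (ht w).1)
      | zero => simp
      | add a b _ _ ha hb => rw [mul_add, add_mul, ha, hb]
      | smul a b _ hb => rw [mul_smul_comm, smul_mul_assoc, hb]
    exact DFunLike.congr_fun (hall (linAct hlin ⟨g', hg'⟩)) v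

variable [Finite V] [Nontrivial V] [Finite F]

/-- An element of order `r`, with `r` primitive for `|F| ^ m`, acts non-trivially on `B / A`. -/
theorem Layer.exists_square {A B C : Subgroup G} {s r : ℕ} (L : Layer A B s) [A.Normal] [B.Normal]
    (hBC : B ≤ C) (hAc : IsCyclic A) (hAC : ∀ g ∈ C, ∀ a ∈ A, g * a = a * g)
    (hlin : ∀ g ∈ C, ∀ (f : F) (v : V), g • f • v = f • g • v)
    (hfaith : ∀ g : G, (∀ v : V, g • v = v) → g = 1)
    (hr : r.Prime) (hrs : r ≠ s) {x : G} (hxC : x ∈ C) (hx : orderOf x = r)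
    (hrm : r ∣ Nat.card F ^ Module.finrank F V - 1)
    (hprim : ∀ i, 0 < i → i < Module.finrank F V → ¬ r ∣ Nat.card F ^ i - 1) :
    ∃ h, 0 < h ∧ r ∣ s ^ (2 * h) - 1 ∧ s ^ (2 * h) ≤ Nat.card (B.map (QuotientGroup.mk' A)) ∧
      (s ^ (2 * h) = Nat.card (B.map (QuotientGroup.mk' A)) →
        ∀ b ∈ B, x * b * x⁻¹ * b⁻¹ ∈ A → b ∈ A) := by
  classical
  haveI : Fact r.Prime := ⟨hr⟩
  haveI : Module.Finite F V := Module.Finite.of_finite
  have hH : IsPGroup r (Subgroup.zpowers x) :=
    IsPGroup.of_card (n := 1) (by rw [Nat.card_zpowers, hx, pow_one])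
  have hgen : ∀ (g : Subgroup.zpowers x), ∃ k : ℕ, x ^ k = (g : G) := fun g => by
    exact (Submonoid.mem_powers_iff _ _).1 (mem_powers_iff_mem_zpowers.2 g.2)
  -- invariant subspaces
  let X : Module.End F V := linAct hlin ⟨x, hxC⟩
  have hsub : ∀ U : Submodule F V, (∀ u ∈ U, x • u ∈ U) → (∀ u ∈ U, x • u = u → u = 0) →
      U = ⊥ ∨ U = ⊤ := by
    intro U hU hfix
    have hUg : ∀ (g : Subgroup.zpowers x) (u : U), (g : G) • (u : V) ∈ U := by
      intro g u
      obtain ⟨k, hk⟩ := hgen g
      rw [← hk]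
      clear hk
      induction k with
      | zero => simp
      | succ k ih => rw [pow_succ', mul_smul]; exact hU _ ih
    letI : MulAction (Subgroup.zpowers x) U :=
      { smul := fun g u => ⟨(g : G) • (u : V), hUg g u⟩
        one_smul := fun u => Subtype.ext (one_smul G (u : V))
        mul_smul := fun g g' u => Subtype.ext (mul_smul (g : G) g' (u : V)) }
    have h := dvd_card_sub_one hH (0 : U) (fun b => ⟨fun hb =>
      Subtype.ext (hfix b b.2 (congrArg Subtype.val (hb ⟨x, Subgroup.mem_zpowers x⟩))),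
      fun hb g => Subtype.ext (show (g : G) • (b : V) = b by rw [hb]; exact smul_zero _)⟩)
    rw [Module.natCard_eq_pow_finrank (K := F) (V := U)] at h
    rcases Nat.eq_zero_or_pos (Module.finrank F U) with h0 | h0
    · exact Or.inl (Submodule.finrank_eq_zero.1 h0)
    · rcases (Submodule.finrank_le U).lt_or_eq with hlt | heq
      · exact absurd h (hprim _ h0 hlt)
      · exact Or.inr (Submodule.eq_top_of_finrank_eq heq)
  have hnofix : ∀ v : V, x • v = v → v = 0 := by
    let U : Submodule F V := LinearMap.ker (X - 1)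
    have hUmem : ∀ v : V, v ∈ U ↔ x • v = v := fun v => by
      rw [LinearMap.mem_ker, LinearMap.sub_apply, sub_eq_zero]
      rfl
    have hcard : Nat.card U ≡ Nat.card V [MOD r] := by
      refine Nat.ModEq.symm ?_
      have h := hH.card_modEq_card_fixedPoints V
      have he : Nat.card (MulAction.fixedPoints (Subgroup.zpowers x) V) = Nat.card U :=
        Nat.card_congr (Equiv.subtypeEquivRight fun v => by
          rw [hUmem]
          refine ⟨fun hv => hv ⟨x, Subgroup.mem_zpowers x⟩, fun hv g => ?_⟩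
          show (g : G) • v = v
          obtain ⟨k, hk⟩ := hgen g
          rw [← hk]
          clear hk
          induction k with
          | zero => simp
          | succ k ih => rw [pow_succ, mul_smul, hv, ih])
      rwa [he] at h
    rw [Module.natCard_eq_pow_finrank (K := F) (V := U),
      Module.natCard_eq_pow_finrank (K := F) (V := V)] at hcard
    have hq : 1 ≤ Nat.card F := Nat.card_pos
    have hi : r ∣ Nat.card F ^ Module.finrank F U - 1 := by
      refine (Nat.modEq_iff_dvd' (Nat.one_le_pow _ _ hq)).1 ?_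
      exact ((Nat.modEq_iff_dvd' (Nat.one_le_pow _ _ hq)).2 hrm).trans hcard.symm
    rcases Nat.eq_zero_or_pos (Module.finrank F U) with h0 | h0
    · intro v hv
      have hv' := (hUmem v).2 hv
      rwa [Submodule.finrank_eq_zero.1 h0, Submodule.mem_bot] at hv'
    · rcases (Submodule.finrank_le U).lt_or_eq with hlt | heq
      · exact absurd hi (hprim _ h0 hlt)
      · have htop := Submodule.eq_top_of_finrank_eq heq
        have hx1 : x = 1 := hfaith x fun v => (hUmem v).1 (htop ▸ Submodule.mem_top)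
        rw [hx1, orderOf_one] at hx
        exact absurd hx hr.one_lt.ne
  -- the centralizer of `x` is commutative
  have hcomm : ∀ b ∈ C, ∀ c ∈ C, x * b = b * x → x * c = c * x → b * c = c * b := by
    let D : Subring (Module.End F V) := Subring.centralizer {X}
    haveI : Finite (Module.End F V) := Finite.of_injective _ DFunLike.coe_injective
    haveI : Nontrivial D := by
      obtain ⟨v, hv⟩ := exists_ne (0 : V)
      exact ⟨⟨1, 0, fun h => hv (DFunLike.congr_fun (congrArg Subtype.val h) v)⟩⟩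
    have hinj : ∀ y : D, y ≠ 0 → ∀ v, y.1 v = 0 → v = 0 := by
      intro y hy v hv
      have hcy : X * y.1 = y.1 * X := Subring.mem_centralizer_iff.1 y.2 X rfl
      rcases hsub (LinearMap.ker y.1) (fun u hu => by
        rw [LinearMap.mem_ker] at hu ⊢
        have h := DFunLike.congr_fun hcy u
        have h' : y.1 (x • u) = x • y.1 u := h.symm
        rw [h', hu, smul_zero]) (fun u _ h => hnofix u h) with h | h
      · exact (LinearMap.ker_eq_bot'.1 h) v hv
      · exact absurd (Subtype.ext (LinearMap.ker_eq_top.1 h)) hy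
    haveI : NoZeroDivisors D := ⟨fun {a b} hab => by
      by_contra h
      push Not at h
      obtain ⟨v, hv⟩ := exists_ne (0 : V)
      exact hv (hinj b h.2 v (hinj a h.1 _ (DFunLike.congr_fun (congrArg Subtype.val hab) v)))⟩
    haveI : IsDomain D := NoZeroDivisors.to_isDomain D
    intro b hb c hc hxb hxc
    have hmem : ∀ e (he : e ∈ C), x * e = e * x → linAct hlin ⟨e, he⟩ ∈ D := fun e he hxe =>
      Subring.mem_centralizer_iff.2 (by
        rintro _ rfl
        show linAct hlin _ * linAct hlin _ = linAct hlin _ * linAct hlin _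
        rw [← map_mul, ← map_mul]
        congr 1
        exact Subtype.ext hxe)
    have hc' := congrArg Subtype.val ((Finite.isDomain_to_isField D).mul_comm
      ⟨_, hmem b hb hxb⟩ ⟨_, hmem c hc hxc⟩)
    refine eq_of_mul_inv_eq_one (hfaith _ fun v => ?_)
    have h := DFunLike.congr_fun hc' ((c * b)⁻¹ • v)
    have h' : b • c • (c * b)⁻¹ • v = c • b • (c * b)⁻¹ • v := h
    rw [← mul_smul, ← mul_smul c b, smul_inv_smul, ← mul_smul] at h'
    exact h'
  -- the action on `W`
  let π := QuotientGroup.mk' A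
  let W := B.map π
  haveI : W.Normal := Subgroup.Normal.map inferInstance π (QuotientGroup.mk'_surjective A)
  let Φ : G →* MulAut W := MulAut.conjNormal.comp π
  have hΦ : ∀ (g : G) (w : W), ((Φ g w : W) : G ⧸ A) = π g * w * (π g)⁻¹ := fun g w =>
    MulAut.conjNormal_apply (π g) w
  have hWc : ∀ u v : W, u * v = v * u := by
    rintro ⟨_, b, hb, rfl⟩ ⟨_, c, hc, rfl⟩
    refine Subtype.ext ?_
    show π b * π c = π c * π b
    rw [← map_mul, ← map_mul]
    refine (QuotientGroup.eq (s := A)).2 ?_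
    rw [show (b * c)⁻¹ * (c * b) = c⁻¹ * b⁻¹ * c * b by group]
    simpa using L.comm _ (inv_mem hc) _ (inv_mem hb)
  letI : CommGroup W := { (inferInstance : Group W) with mul_comm := hWc }
  have hWs : ∀ w : W, w ^ s = 1 := by
    rintro ⟨_, b, hb, rfl⟩
    refine Subtype.ext ?_
    show (π b) ^ s = 1
    rw [← map_pow]
    exact (QuotientGroup.eq_one_iff _).2 (L.pow b hb)
  let δ : W →* W := MonoidHom.mk' (fun w => Φ x w * w⁻¹) (fun u v => by
    rw [map_mul, mul_inv]; exact mul_mul_mul_comm _ _ _ _)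
  have hfixU : ∀ u ∈ δ.range, Φ x u = u → u = 1 := by
    rintro _ ⟨v, rfl⟩ hu
    have hk : ∀ k : ℕ, Φ (x ^ k) v = δ v ^ k * v := by
      intro k
      induction k with
      | zero => simp
      | succ k ih =>
        rw [pow_succ', map_mul, MulAut.mul_apply, ih, map_mul, map_pow, hu, pow_succ, mul_assoc]
        show _ = _ * (Φ x v * v⁻¹ * v)
        rw [inv_mul_cancel_right]
    have h1 := hk r
    rw [← hx, pow_orderOf_eq_one, map_one, MulAut.one_apply, hx] at h1
    have h2 : δ v ^ r = 1 := mul_eq_right.1 h1.symm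
    have h3 := pow_gcd_eq_one.2 (⟨h2, hWs (δ v)⟩ : δ v ^ r = 1 ∧ δ v ^ s = 1)
    rwa [(Nat.coprime_primes hr L.prime).2 hrs, pow_one] at h3
  have hdisj : δ.range ⊓ δ.ker = ⊥ := by
    rw [eq_bot_iff]
    rintro u ⟨hu1, hu2⟩
    refine hfixU u hu1 ?_
    have hu2' : Φ x u * u⁻¹ = 1 := hu2
    exact mul_inv_eq_one.1 hu2'
  have hcardW : Nat.card W = Nat.card δ.range * Nat.card δ.ker := by
    rw [Subgroup.card_eq_card_quotient_mul_card_subgroup δ.ker,
      Nat.card_congr (QuotientGroup.quotientKerEquivRange δ).toEquiv]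
  -- `x` is not trivial on `W`
  have hδ : δ.range ≠ ⊥ := by
    intro h
    apply L.ne
    refine le_antisymm (fun b hb => L.center b hb fun c hc => ?_) L.le
    have hfix : ∀ e ∈ B, x * e = e * x := by
      intro e he
      have h0 : δ ⟨π e, Subgroup.mem_map_of_mem π he⟩ = 1 := by
        have : δ ⟨π e, Subgroup.mem_map_of_mem π he⟩ ∈ δ.range := ⟨_, rfl⟩
        rwa [h, Subgroup.mem_bot] at this
      have ha : x * e * x⁻¹ * e⁻¹ ∈ A := by
        rw [← QuotientGroup.eq_one_iff]
        show π (x * e * x⁻¹ * e⁻¹) = 1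
        have h0' := congrArg Subtype.val h0
        simp only [δ, MonoidHom.mk'_apply, Subgroup.coe_mul, Subgroup.coe_inv, hΦ,
          Subgroup.coe_one] at h0'
        rw [map_mul, map_mul, map_mul, map_inv, map_inv]
        exact h0'
      set a := x * e * x⁻¹ * e⁻¹ with hadef
      have hxe : x * e * x⁻¹ = a * e := by rw [hadef]; group
      have hpk : ∀ k : ℕ, x ^ k * e * (x ^ k)⁻¹ = a ^ k * e := by
        intro k
        induction k with
        | zero => simp
        | succ k ih =>
          calc x ^ (k + 1) * e * (x ^ (k + 1))⁻¹ = x * (x ^ k * e * (x ^ k)⁻¹) * x⁻¹ := by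
                rw [pow_succ']; group
            _ = x * (a ^ k * e) * x⁻¹ := by rw [ih]
            _ = (x * a ^ k) * e * x⁻¹ := by group
            _ = (a ^ k * x) * e * x⁻¹ := by rw [hAC x hxC _ (pow_mem ha k)]
            _ = a ^ k * (x * e * x⁻¹) := by group
            _ = a ^ (k + 1) * e := by rw [hxe, pow_succ]; group
      have har : a ^ r = 1 := by
        have h1 := hpk r
        rw [← hx, pow_orderOf_eq_one, one_mul, inv_one, mul_one, hx] at h1
        exact mul_eq_right.1 h1.symm
      have has : a ^ s = 1 := by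
        have h2 : (x * e * x⁻¹) ^ s = e ^ s := by
          rw [conj_pow, hAC x hxC _ (L.pow e he), mul_inv_cancel_right]
        rw [hxe, Commute.mul_pow (L.cent a ha e he)] at h2
        exact mul_eq_right.1 h2
      have ha1 : a = 1 := by
        have h3 := pow_gcd_eq_one.2 (⟨har, has⟩ : a ^ r = 1 ∧ a ^ s = 1)
        rwa [(Nat.coprime_primes hr L.prime).2 hrs, pow_one] at h3
      rw [ha1, one_mul] at hxe
      exact mul_inv_eq_iff_eq_mul.1 hxe
    exact hcomm b (hBC hb) c (hBC hc) (hfix b hb) (hfix c hc)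
  -- the preimage of the commutator space
  let E : Subgroup G := (δ.range.map W.subtype).comap π
  have hEmem : ∀ e : G, e ∈ E ↔ ∃ u ∈ δ.range, (u : G ⧸ A) = π e := fun e =>
    Subgroup.mem_map
  have hEB : E ≤ B := by
    intro e he
    obtain ⟨u, -, hu⟩ := (hEmem e).1 he
    obtain ⟨b, hb, hb'⟩ := Subgroup.mem_map.1 u.2
    have hbe : b⁻¹ * e ∈ A := (QuotientGroup.eq (s := A)).1 (hb'.trans hu)
    simpa using mul_mem hb (L.le hbe)
  have hAE : A ≤ E := fun a ha => (hEmem a).2 ⟨1, one_mem _, by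
    rw [Subgroup.coe_one]; exact ((QuotientGroup.eq_one_iff a).2 ha).symm⟩
  have horth : ∀ e ∈ E, ∀ f ∈ B, x * f * x⁻¹ * f⁻¹ ∈ A → e * f = f * e := by
    intro e he f hf hfx
    obtain ⟨_, ⟨⟨_, v, hv, rfl⟩, rfl⟩, hu⟩ := (hEmem e).1 he
    have hu' : π (x * v * x⁻¹ * v⁻¹) = π e := by
      rw [← hu]
      simp only [δ, MonoidHom.mk'_apply, Subgroup.coe_mul, Subgroup.coe_inv, hΦ, map_mul, map_inv]
    have hea : (x * v * x⁻¹ * v⁻¹)⁻¹ * e ∈ A := (QuotientGroup.eq (s := A)).1 hu'
    set c := v * f * v⁻¹ * f⁻¹ with hcdef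
    have hc : c ∈ A := L.comm v hv f hf
    have hxv : x * v * x⁻¹ ∈ B := (inferInstance : B.Normal).conj_mem v hv x
    have h1 : (x * v * x⁻¹) * f * (x * v * x⁻¹)⁻¹ * f⁻¹ = c := by
      set a := x⁻¹ * f * x * f⁻¹ with hadef
      have ha : a ∈ A := by
        have := (inferInstance : A.Normal).conj_mem _ (inv_mem hfx) x⁻¹
        convert this using 1
        rw [hadef]; group
      have e1 : (x * v * x⁻¹) * f * (x * v * x⁻¹)⁻¹ * f⁻¹ =
          x * (v * (a * f) * v⁻¹ * (a * f)⁻¹) * x⁻¹ := by rw [hadef]; group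
      have e2 : v * (a * f) * v⁻¹ * (a * f)⁻¹ = c := by
        calc v * (a * f) * v⁻¹ * (a * f)⁻¹ = (v * a) * f * v⁻¹ * f⁻¹ * a⁻¹ := by group
          _ = (a * v) * f * v⁻¹ * f⁻¹ * a⁻¹ := by rw [L.cent a ha v hv]
          _ = a * c * a⁻¹ := by rw [hcdef]; group
          _ = c := by rw [L.cent a ha c (L.le hc), mul_inv_cancel_right]
      rw [e1, e2, hAC x hxC c hc, mul_inv_cancel_right]
    have h2 : Commute (x * v * x⁻¹ * v⁻¹) f := by
      have e3 : (x * v * x⁻¹) * f = c * f * (x * v * x⁻¹) := by rw [← h1]; group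
      have e4 : v⁻¹ * f = c⁻¹ * f * v⁻¹ := by
        have e5 : c * v⁻¹ = v⁻¹ * c := L.cent c hc _ (inv_mem hv)
        calc v⁻¹ * f = c⁻¹ * (c * v⁻¹) * f := by group
          _ = c⁻¹ * (v⁻¹ * c) * f := by rw [e5]
          _ = c⁻¹ * f * v⁻¹ := by rw [hcdef]; group
      calc (x * v * x⁻¹ * v⁻¹) * f = (x * v * x⁻¹) * (v⁻¹ * f) := by group
        _ = ((x * v * x⁻¹) * c⁻¹) * f * v⁻¹ := by rw [e4]; group
        _ = (c⁻¹ * (x * v * x⁻¹)) * f * v⁻¹ := by rw [L.cent c⁻¹ (inv_mem hc) _ hxv]
        _ = c⁻¹ * ((x * v * x⁻¹) * f) * v⁻¹ := by group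
        _ = f * (x * v * x⁻¹ * v⁻¹) := by rw [e3]; group
    have h3 : Commute ((x * v * x⁻¹ * v⁻¹)⁻¹ * e) f := L.cent _ hea f hf
    have h4 := h2.mul_left h3
    rw [mul_inv_cancel_left] at h4
    exact h4
  have hZE : Subgroup.center E = A.subgroupOf E := by
    ext e
    rw [Subgroup.mem_center_iff, Subgroup.mem_subgroupOf]
    refine ⟨fun he => L.center _ (hEB e.2) fun b hb => ?_, fun he g => Subtype.ext
      (L.cent _ he _ (hEB g.2)).symm⟩
    have htop : δ.range ⊔ δ.ker = ⊤ := Subgroup.eq_top_of_card_eq _ (by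
      refine le_antisymm (Finite.card_subtype_le _) ?_
      rw [hcardW]
      refine le_trans (le_of_eq ?_) (Nat.card_mono (Set.toFinite _) (show (δ.range : Set W) * (δ.ker : Set W) ⊆
        ((δ.range ⊔ δ.ker : Subgroup W) : Set W) from (Subgroup.normal_mul δ.range δ.ker).symm.subset))
      rw [← Nat.card_prod]
      refine Nat.card_congr (Equiv.ofBijective (fun u => ⟨(u.1 : W) * u.2,
        Set.mul_mem_mul u.1.2 u.2.2⟩) ⟨fun u v h => ?_, fun w => ?_⟩)
      · exact Subgroup.mul_injective_of_disjoint (disjoint_iff.2 hdisj) (congrArg Subtype.val h)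
      · obtain ⟨_, p, hp, k, hk, rfl⟩ := w
        exact ⟨(⟨p, hp⟩, ⟨k, hk⟩), rfl⟩)
    have hw : (⟨π b, Subgroup.mem_map_of_mem π hb⟩ : W) ∈ δ.range ⊔ δ.ker := htop ▸ Subgroup.mem_top _
    obtain ⟨p, hp, k, hk, hpk⟩ := Subgroup.mem_sup.1 hw
    obtain ⟨f, hf, hfk⟩ := Subgroup.mem_map.1 k.2
    have hfx : x * f * x⁻¹ * f⁻¹ ∈ A := by
      rw [← QuotientGroup.eq_one_iff]
      show π (x * f * x⁻¹ * f⁻¹) = 1
      have hk' : Φ x k * k⁻¹ = 1 := hk
      have := congrArg Subtype.val hk'
      simp only [Subgroup.coe_mul, Subgroup.coe_inv, hΦ, Subgroup.coe_one] at this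
      rw [map_mul, map_mul, map_mul, map_inv, map_inv, hfk]
      exact this
    have hbf : b * f⁻¹ ∈ E := (hEmem _).2 ⟨p, hp, by
      rw [map_mul, map_inv, hfk]
      exact eq_mul_inv_of_mul_eq (congrArg Subtype.val hpk)⟩
    have h1 : Commute (e : G) (b * f⁻¹) := (congrArg Subtype.val (he ⟨_, hbf⟩)).symm
    have h2 : Commute (e : G) f := horth e e.2 f hf hfx
    have h3 := h1.mul_right h2
    rw [inv_mul_cancel_right] at h3
    exact h3
  have hidx : (Subgroup.center E).index = Nat.card δ.range := by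
    rw [hZE]
    let ψ : E →* δ.range.map W.subtype := (π.comp E.subtype).codRestrict _ fun e => e.2
    have hker : ψ.ker = A.subgroupOf E := by
      ext e
      rw [MonoidHom.mem_ker, Subgroup.mem_subgroupOf, Subtype.ext_iff]
      exact QuotientGroup.eq_one_iff (e : G)
    have hsurj : Function.Surjective ψ := by
      rintro ⟨w, hw⟩
      obtain ⟨e, rfl⟩ := QuotientGroup.mk'_surjective A w
      exact ⟨⟨e, hw⟩, rfl⟩
    rw [← hker, Subgroup.index_ker, MonoidHom.range_eq_top.2 hsurj, Subgroup.card_top,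
      Subgroup.card_map_of_injective W.subtype_injective]
  obtain ⟨h, hh⟩ := center_index_square L.prime (Nat.card E) E le_rfl
    (fun a b => by rw [hZE]; exact L.comm _ (hEB a.2) _ (hEB b.2))
    (fun a => by rw [hZE]; exact L.pow _ (hEB a.2))
    (by
      haveI : Fintype A := Fintype.ofFinite A
      haveI := hAc
      refine le_trans (le_trans (Nat.card_le_card_of_injective
        (fun z => (⟨⟨((z.1 : E) : G), show ((z.1 : E) : G) ∈ A from (SetLike.ext_iff.1 hZE z.1).1 z.2.1⟩, Subtype.ext (congrArg Subtype.val z.2.2 :)⟩ :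
          {a : A // a ^ s = 1}))
        (fun u v huv => Subtype.ext (Subtype.ext (congrArg (fun a => ((a.1 : A) : G)) huv)))) (le_of_eq ?_))
        (IsCyclic.card_pow_eq_one_le (α := A) (n := s) L.prime.pos)
      rw [Nat.card_eq_fintype_card, Fintype.card_subtype])
  have hhpos : 0 < h := by
    rcases Nat.eq_zero_or_pos h with rfl | hpos
    · exact absurd (Subgroup.card_eq_one.1 (hidx.symm.trans hh)) hδ
    · exact hpos
  refine ⟨h, hhpos, ?_, ?_, fun heq b hb hbx => ?_⟩
  · have hinv : ∀ (g : Subgroup.zpowers x) (u : δ.range), Φ g u ∈ δ.range := by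
      intro g u
      obtain ⟨v, hv⟩ := u.2
      obtain ⟨k, hk⟩ := hgen g
      refine ⟨Φ g v, ?_⟩
      show Φ x (Φ g v) * (Φ g v)⁻¹ = Φ g u
      rw [← hv]
      show _ = Φ g (Φ x v * v⁻¹)
      rw [map_mul, map_inv, ← MulAut.mul_apply, ← map_mul, ← hk, ← pow_succ', pow_succ, map_mul,
        MulAut.mul_apply]
    letI : MulAction (Subgroup.zpowers x) δ.range :=
      { smul := fun g u => ⟨Φ g u, hinv g u⟩
        one_smul := fun u => Subtype.ext (show Φ 1 u.1 = u.1 by rw [map_one]; rfl)
        mul_smul := fun g g' u => Subtype.ext (show Φ ((g : G) * g') u.1 = Φ g (Φ g' u.1) by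
          rw [map_mul]; rfl) }
    rw [← hh, hidx]
    refine dvd_card_sub_one hH (1 : δ.range) (fun u => ⟨fun hu => Subtype.ext
      (hfixU u u.2 (congrArg Subtype.val (hu ⟨x, Subgroup.mem_zpowers x⟩))), fun hu g => ?_⟩)
    subst hu
    exact Subtype.ext (map_one (Φ g))
  · rw [← hh, hidx]
    exact Nat.le_of_dvd Nat.card_pos (Subgroup.card_subgroup_dvd_card _)
  · rw [← hh, hidx] at heq
    have hk1 : δ.ker = ⊥ := by
      refine Subgroup.card_eq_one.1 ?_
      have h1 := hcardW
      rw [← heq] at h1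
      exact (mul_eq_left₀ Nat.card_pos.ne').1 h1.symm
    have hmem : (⟨π b, Subgroup.mem_map_of_mem π hb⟩ : W) ∈ δ.ker := by
      rw [MonoidHom.mem_ker]
      refine Subtype.ext ?_
      simp only [δ, MonoidHom.mk'_apply, Subgroup.coe_mul, Subgroup.coe_inv, hΦ, Subgroup.coe_one]
      rw [← map_inv, ← map_mul, ← map_mul, ← map_inv, ← map_mul]
      exact (QuotientGroup.eq_one_iff _).2 hbx
    rw [hk1, Subgroup.mem_bot] at hmem
    exact (QuotientGroup.eq_one_iff b).1 (congrArg Subtype.val hmem)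

end CfsgLib.Semilinear
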